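import Mathlib.Data.Nat.Notation

/-!
# Words in the centraliser

Machine-generated data.
-/

set_option autoImplicit false
set_option maxRecDepth 100000

namespace CfsgLib.Sporadic.CosetCert.LyThree

/-- Atom words of the two-elements. -/
def gWords : List (List ℕ) := [[13, 17, 9, 7, 18, 21, 22, 25, 25, 22, 20, 19, 16, 0, 8, 4],
    [13, 17, 9, 7, 22, 21, 25, 25, 20, 22, 16, 0, 8, 4],
    [13, 17, 9, 7, 21, 23, 19, 21, 24, 24, 20, 18, 23, 20, 16, 0, 8, 4],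
    [13, 17, 9, 7, 22, 25, 23, 19, 19, 22, 22, 25, 23, 23, 16, 0, 8, 4],
    [13, 17, 9, 7, 20, 23, 19, 19, 22, 22, 21, 16, 0, 8, 4],
    [13, 17, 9, 7, 23, 19, 23, 20, 22, 21, 19, 16, 0, 8, 4],
    [13, 17, 9, 7, 20, 18, 21, 26, 19, 19, 21, 22, 26, 19, 16, 0, 8, 4],
    [13, 17, 9, 7, 23, 20, 22, 24, 24, 22, 21, 23, 16, 0, 8, 4],
    [16, 0, 8, 6, 0, 15, 17, 9, 7, 15, 0, 7, 5, 0, 14, 16, 9, 6],
    [16, 0, 8, 6, 0, 15, 17, 9, 7, 16, 0, 8, 5, 0, 14, 17, 9, 7],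
    [16, 0, 8, 6, 0, 15, 17, 9, 7, 17, 0, 6, 5, 0, 14, 15, 9, 8],
    [16, 0, 8, 6, 0, 15, 17, 9, 7, 15, 0, 7, 4, 0, 13, 16, 9, 6]]

/-- An atom word. -/
def xWord : List ℕ := [21, 19, 20, 18]

/-- An atom word. -/
def xConj : List ℕ := [16, 0, 8, 4, 0, 13, 17, 9, 7]

/-- An atom word. -/
def uWord : List ℕ := [16, 0, 8, 6, 0, 15, 17, 9, 7, 15, 0, 7, 5, 0, 14, 16, 9, 6]

/-- An atom word. -/
def a7Word : List ℕ := [16, 0, 8, 6, 0, 15, 17, 9, 7, 14, 0, 6, 4, 0, 13, 15, 9, 5, 12, 0, 4, 2, 0, 11, 13,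
    9, 3, 16, 0, 8, 6, 0, 15, 17, 9, 7, 14, 0, 6, 4, 0, 13, 15, 9, 5, 12, 0, 4, 2, 0,
    11, 13, 9, 3]

/-- A word in the two-elements, and the number after them for the element of order three. -/
def s0Word : List ℕ := [6, 5, 5, 8, 6, 6, 6, 6, 6, 6, 6, 10, 10, 10, 5, 5, 5, 0, 10, 6, 6, 5, 5, 8, 6,
    6, 6, 6, 6, 6, 6, 10, 10, 10, 5, 5, 5, 0, 8, 5, 8, 6, 11, 11, 11, 8, 8, 8]

/-- A word in the two-elements, and the number after them for the element of order three. -/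
def s1Word : List ℕ := [8, 5, 8, 6, 11, 11, 11, 8, 8, 8, 0, 5, 6, 10, 5, 5, 5, 5, 5, 5, 5, 5, 5, 0, 3,
    10, 5, 4, 8, 8, 8, 6, 6, 6, 6, 6, 6, 6, 11, 11, 11, 3, 10, 5, 4, 8, 8, 8, 6, 6,
    6, 6, 6, 6, 6, 11, 11, 11]

/-- A word in the two-elements, and the number after them for the element of order three. -/
def swWord : List ℕ := [8, 5, 8, 6, 11, 11, 11, 8, 8, 8, 0, 5, 6, 10, 5, 5, 5, 5, 5, 5, 5, 5, 5, 0, 3,
    10, 5, 4, 8, 8, 8, 6, 6, 6, 6, 6, 6, 6, 11, 11, 11, 3, 10, 5, 4, 8, 8, 8, 6, 6,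
    6, 6, 6, 6, 6, 11, 11, 11, 12, 12, 10, 6, 6, 5, 5, 8, 6, 6, 6, 6, 6, 6, 6, 10, 10,
    10, 5, 5, 5, 0, 6, 5, 5, 8, 6, 6, 6, 6, 6, 6, 6, 10, 10, 10, 5, 5, 5, 0, 10, 6,
    8, 5, 8, 6, 11, 11, 11, 8, 8, 8, 10, 6, 10, 6, 10, 6, 10, 6, 10, 6, 10, 6, 10, 6, 10,
    6, 10, 6, 10, 6]

/-- A word in the two-elements, and the number after them for the element of order three. -/
def yWord : List ℕ := [8, 6]

end CfsgLib.Sporadic.CosetCert.LyThree
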